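import Cfsg.Agent.Helper92.Fi22O.Check3
import Cfsg.Agent.Helper92.Fi22O.Data

set_option autoImplicit false
set_option maxRecDepth 1000000

/-!
# The certificates of the stages (kernel computations)
-/

namespace Cfsg.Agent.Helper92.Fi22O

open Cfsg.Agent.Helper28

/-- the standard generators have the commutation pattern of the diagram -/
noncomputable def stdOK : Bool :=
  allLt (fun j => candAux j (stdA.getD j (0, [])).1 0 (stdA.take j)) 9

theorem std_ok : stdOK = true := by decide +kernel

theorem stage1_ok : stageB twL trX 3 1 A1 34 gs1 tab1 = true := by decide +kernel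

theorem stage2_ok : stageB twL trX 3 2 A2 86 gs2 tab2 = true := by decide +kernel

theorem stage3_ok : stageB twL trX 3 3 A3 12 gs3 tab3 = true := by decide +kernel

theorem stage4_ok : stageB twL trX 3 4 A4 59 gs4 tab4 = true := by decide +kernel

theorem search5_ok : search twL trX 5 A5 = true := by decide +kernel

end Cfsg.Agent.Helper92.Fi22O
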