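set_option autoImplicit false

/-!
# Data for the classes of the elements of `E0` (generated)

`nword`: a word normalising `E0`; `Nmat`: its matrix on the basis `dwords` (rows coded in binary);
`colTab`: for every non-zero vector `v < 1024` twelve bits: the number of a matrix (among `Ms ++ [Nmat]`) in the low
4 bits, the depth in the next 6 bits and the colour (1, 2, 3) above; the matrix carries `v` to a vector of the same
colour and smaller depth; the roots are `2`, `6`, `14`.
-/

namespace Cfsg.Agent.Helper92.Fi22O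

def nword : List Nat := [6, 8, 4, 6, 14, 16, 14, 6, 8, 4, 6, 14, 10, 8, 6, 4, 2, 4, 6, 8, 10, 14, 6, 4, 8, 6, 14, 16, 14, 6, 4, 8, 6, 16, 14, 6, 8, 4, 6, 14, 10, 8, 6, 4, 2, 0, 2, 4, 6, 8, 10, 14, 6, 4, 8, 6, 14, 16, 14, 6, 4, 2, 0, 2, 4, 6, 14, 14, 8, 10, 6, 8, 4, 6, 14, 12, 10, 8, 6, 4, 2, 0, 2, 4, 6, 8, 10, 12, 14, 6, 4, 8, 6, 10, 8, 14]

def Nmat : List Nat := [1, 256, 4, 663, 173, 1023, 16, 91, 920, 497]

def colTab : Nat := 0x432837851c57836c24c14c41842c53c35c32c46c42832c66855c47c57c24c36c50c57831c50c44c53c57c42842c47c32855c47c55c47c36c42c52854c30c33c33837c41c43c42c47c31846c42c35c50c40c44c34c54c41843c44841c37c43c45853c57c31c34c44c43c54842c42c43c40c46c31833c37c21c47c40c47c52845c32c22c46c34c50c40844c47c33827c50c40c25c27837c65853845434853c51c57c30c20c57c56842c50c42845c51c31c47c45847c32841c41c36c50c51c37c52854c40c51857c33c31c47c45c43c45c56c51c50c26c36847c44c55c46c53843c35c25c34c54867853c44c57c37c46c41c35c45c27c32c34c47846c44c57c54856c55c47847c51c50c47c47847c44c45847c47c42853c67421852c35c54836c34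c40c41c37c55844c46c36c46c57847857c67c42c43c44c57847c47c50857440822812c52c47c40c57c54832c22c12c45c57831c51c43c50c41c40843c55c51c44c40857c40c44c53c54c51c52c37846c44c34c45c56c43841c52c47c37c55847857c57c57857c44c42c55c43c40c37c41c47c46847c52c37c41c47c47c37c20843c43c22c47847857c51820437c57822c50c41c56c47c44822c47c34830c53c47c57c37c57844c57c47c47c52827c41c45846c40c50c47c53c47c44832c44c44c46c56c43c56c36c44847c36854c54c64863c27c43c53c35c37847857c41c41c46c37c57c55c46c54c45c35856c47c35851c53c51c47c47c42c55857417854854c62817c34c36c47c31c45c36c47821c43c33c43845c54c54c43c37c55c46844c57840841433c46c25c20837c22c44c53852847c47c54c37c37c44c51847c47c45835c50c52c52c56c57c30847c37c32c30c54c57853837c41c57c36c45834c42c35c40c44c42c47842c30c31c37c37c51c45c50c47c44855c40c47c50c55845c45c27c65856c56840c41c52c43c42c46c43c24c42845c34c42c51c47c57833c32c35c36843c57c47c26c34c51c52845c23c41842c33c55c44c41c50855c54c51c45c27c51c55854c47845c44c47c31c45c46840c52c32c36830c63850842434840c52c37c41c44c53845c63c40c43825c30850c57422854c44835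c53c34c30c36c42c31c37c46c52847c43c57835c57c46844c47c36c50c52c47c44c57c37c45c47c60857854c57821442c51811c37847857c40c21831c47c11c54c47c43c45c55c33c43835c46c53c51c47c47854c47c42c50c53842c54c40c42843c47c47832c44c56845c43c37c40c47c50c47c56c32c57c57c45847c47c52857c26c56841c36c47c55c44c40c35844c44c25c42c52c47c37c40c51c42c43847c54c47852c41c51c42c46c42845c47c32c57851c33c41c52c46842c57c55c45843c30c41c47c54837c34c44c45c41846c31c21c57c32c50c51852847c47c56c36840c45c35c27c37c50c52c53c46845c42c36c43c33c47c47c47c31845c52c35c32c50845c56841c30c55c47c37841c55837431c57847c23836c52c13c47c47c43c45834c32c22c47c45856c32c46c42c47c47846c34c31843c34c44c40c51c51c47856c43c45c42c36c55843844c65c51c27c17c51c54841c32c30c37835c67852857433c37c44c44c41c40c23c33831c47856c35c52c56c34842c57c37c46844c43830c54c44c42c50c47c47c37c30842c45c32c33c42846c55853c47c46c46c35c24c34832c43c52c54c40c46831c46c36c50c41c43c33846c57c52c23c25c42c57840c52c30843c57c47841c34c51c55c51c47c42832c32c35c47840c53424841c26c52824c20c57c32837c43c41c57c44843c30842c45c31c51c51c47c47856c62c41c32c30c46c57851c42c31834c53c21c47c54833c45c26c36823c54850844423c52c50c41854842c47c57c51c43c43846c44c57c55c47c51c42836c33c32c50c43c42c47842c37c50c46c52c50c43840834c26c16c55434837847c47c43c44c42c42847c53c50855c43c56c42c47857c47c43857c42c15c25835c50840855435836c41c31c52c35c41c27c32c57841c40c46c57c43c57846c45c47833c42c57c52c52836c42c24c34826c60854844426c45c57c53c37857c57c67857c44c26c36837c57856845437c51c00c10827c56850843427c47800810452867400410000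

end Cfsg.Agent.Helper92.Fi22O
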