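import Cfsg.Agent.Helper92.Fi22O.ClassE
import Cfsg.Agent.Helper92.Fi22O.DataE

set_option autoImplicit false
set_option maxRecDepth 1000000

/-!
# The certificates for the classes of the elements of `E0` (kernel computations)
-/

namespace Cfsg.Agent.Helper92.Fi22O

open Cfsg.Agent.Helper28 Cfsg.Agent.Helper92.Fi23S Cfsg.Agent.Helper92.Fi22S

theorem actAll_ok : actCheck dwords (twords ++ [nword]) (Ms ++ [Nmat]) = true := by decide +kernel

theorem col_ok : colB (Ms ++ [Nmat]) colTab = true := by decide +kernel

theorem fix2 : fixCount (wordL dwords 2) = 694 := by decide +kernel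

theorem fix6 : fixCount (wordL dwords 6) = 182 := by decide +kernel

theorem fix14 : fixCount (wordL dwords 14) = 54 := by decide +kernel

theorem cnt1 : countEq (fun v => cCol (cEnt colTab v)) 1 1024 = 22 := by decide +kernel

theorem cnt2 : countEq (fun v => cCol (cEnt colTab v)) 2 1024 = 231 := by decide +kernel

theorem cnt3 : countEq (fun v => cCol (cEnt colTab v)) 3 1024 = 770 := by decide +kernel

end Cfsg.Agent.Helper92.Fi22O
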