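import Cfsg.Agent.Helper92.Fi23O.Rigid

set_option autoImplicit false

/-!
# Rigidity of a generating tuple of transpositions with a general target set (abstract part)

The rules of `Fi23O.Rigid` with the subgroup of inner automorphisms replaced by a set `N` of automorphisms closed
under removing inner factors, for instance the inner automorphisms together with one further coset; a new leaf rule
for a tuple that is the image of the generators under a given automorphism in `N`.
-/

namespace Cfsg.Agent.Helper92.Fi22O

open Cfsg.Agent.Helper92.Fi23O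

variable {G : Type*} [Group G] {P : Type*} (M : TModel G P)

/-- `N` is closed under removing inner factors -/
def ConjClosed (N : Set (MulAut G)) : Prop := ∀ (s : G) (β : MulAut G), MulAut.conj s * β ∈ N → β ∈ N

/-- inner automorphisms and one further coset -/
def GoodS (σ : MulAut G) : Set (MulAut G) :=
  {β | β ∈ TModel.InnS (G := G) ∨ β * σ⁻¹ ∈ TModel.InnS (G := G)}

theorem conjClosed_goodS (σ : MulAut G) : ConjClosed (GoodS σ) := by
  intro s β h
  rcases h with h | h
  · left
    have h2 : β = (MulAut.conj s)⁻¹ * (MulAut.conj s * β) := by group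
    rw [h2]
    exact Subgroup.mul_mem _ (Subgroup.inv_mem _ ⟨s, rfl⟩) h
  · right
    have h2 : β * σ⁻¹ = (MulAut.conj s)⁻¹ * (MulAut.conj s * β * σ⁻¹) := by group
    rw [h2]
    exact Subgroup.mul_mem _ (Subgroup.inv_mem _ ⟨s, rfl⟩) h

theorem one_mem_goodS (σ : MulAut G) : (1 : MulAut G) ∈ GoodS σ := Or.inl (Subgroup.one_mem _)

theorem self_mem_goodS (σ : MulAut G) : σ ∈ GoodS σ := by
  right
  rw [mul_inv_cancel]
  exact Subgroup.one_mem _

/-- if every automorphism is inner or in the coset of the non-inner `σ`, the inner automorphisms have index `2` -/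
theorem index_two_of_goodS (σ : MulAut G) (hσ : σ ∉ TModel.InnS (G := G)) (hall : ∀ β : MulAut G, β ∈ GoodS σ) :
    (TModel.InnS (G := G)).index = 2 := by
  rw [Subgroup.index_eq_two_iff_exists_notMem_and]
  refine ⟨σ⁻¹, ?_, ?_⟩
  · intro h
    apply hσ
    have := Subgroup.inv_mem _ h
    rwa [inv_inv] at this
  · intro b
    rcases hall b with h | h
    · right; exact h
    · left; exact h

variable (N : Set (MulAut G)) (gens : List P) (adj : ℕ → ℕ → Bool)

/-- every class-preserving automorphism realising `A` lies in `N` -/
def InnerN (A : List P) : Prop := ∀ β ∈ M.AutD, M.Real gens β A → β ∈ N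

theorem innerN_of_map (hN : ConjClosed N) (s : G) (A : List P) (h : InnerN M N gens (A.map (M.ρ s))) :
    InnerN M N gens A := by
  intro β hβ hR
  apply hN s β
  apply h _ (M.conj_mul_mem_AutD s β hβ)
  intro i p a hp ha
  rw [List.getElem?_map] at ha
  cases hA : A[i]? with
  | none => rw [hA] at ha; simp at ha
  | some a0 =>
    rw [hA] at ha
    simp only [Option.map_some, Option.some.injEq] at ha
    rw [MulAut.mul_apply, hR i p a0 hp hA, MulAut.conj_apply, M.conj, ha]

theorem innerN_of_cands (hstd : M.Std gens adj) (A : List P) (hlen : A.length < gens.length)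
    (h : ∀ q, M.Cand adj A q → InnerN M N gens (A ++ [q])) : InnerN M N gens A := by
  intro β hβ hR
  have hk : gens[A.length]? = some (gens[A.length]) := List.getElem?_eq_getElem hlen
  obtain ⟨q, hq⟩ := hβ (gens[A.length])
  have hcand : M.Cand adj A q := by
    intro i a ha
    have hi : i < A.length := by
      by_contra hcon
      rw [List.getElem?_eq_none (by omega)] at ha
      simp at ha
    have hi2 : i < gens.length := by omega
    have hp : gens[i]? = some (gens[i]) := List.getElem?_eq_getElem hi2
    obtain ⟨hne, hiff⟩ := hstd i A.length _ _ hi hp hk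
    have hβa := hR i _ a hp ha
    constructor
    · intro hqa
      apply hne
      apply M.inj
      apply β.injective
      rw [hβa, hq, hqa]
    · rw [← hiff, ← M.comm_iff, ← M.comm_iff, ← hβa, ← hq, ← map_mul, ← map_mul]
      exact β.injective.eq_iff
  apply h q hcand β hβ
  intro i p a hp ha
  by_cases hi : i < A.length
  · rw [List.getElem?_append_left hi] at ha
    exact hR i p a hp ha
  · have hi' : A.length ≤ i := by omega
    rw [List.getElem?_append_right hi'] at ha
    by_cases hi2 : i = A.length
    · subst hi2
      rw [hk] at hp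
      simp only [Nat.sub_self, List.getElem?_cons_zero, Option.some.injEq] at ha hp
      rw [← hp, ← ha]
      exact hq
    · have : 0 < i - A.length := by omega
      rw [List.getElem?_eq_none (by simp; omega)] at ha
      simp at ha

/-- the leaf rule: the tuple `A` is the image of the generators under an automorphism `β0` of `N` -/
theorem innerN_leaf (hgen : Subgroup.closure {x | ∃ p ∈ gens, x = M.τ p} = ⊤) (β0 : MulAut G) (hβ0 : β0 ∈ N)
    (A : List P) (hA : ∀ (i : ℕ) (p : P), gens[i]? = some p → ∃ a, A[i]? = some a ∧ β0 (M.τ p) = M.τ a) :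
    InnerN M N gens A := by
  intro β _ hR
  have h1 : β = β0 := by
    apply MulEquiv.ext
    intro x
    have hx : x ∈ Subgroup.closure {x | ∃ p ∈ gens, x = M.τ p} := by rw [hgen]; trivial
    induction hx using Subgroup.closure_induction with
    | mem y hy =>
      obtain ⟨p, hp, rfl⟩ := hy
      obtain ⟨i, hi, rfl⟩ := List.getElem_of_mem hp
      have h2 : gens[i]? = some gens[i] := List.getElem?_eq_getElem hi
      obtain ⟨a, ha, hβa⟩ := hA i _ h2
      rw [hR i _ a h2 ha, hβa]
    | one => rw [map_one, map_one]
    | mul a b _ _ ha hb => rw [map_mul, map_mul, ha, hb]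
    | inv a _ ha => rw [map_inv, map_inv, ha]
  rw [h1]
  exact hβ0

theorem innerN_nil_all (h : InnerN M N gens []) : ∀ β ∈ M.AutD, β ∈ N := by
  intro β hβ
  apply h β hβ
  intro i p a _ ha
  simp at ha

end Cfsg.Agent.Helper92.Fi22O
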