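import Cfsg.Agent.Helper92.Fi22O.Check
import Cfsg.Agent.Helper92.Fi22O.Rigid2

set_option autoImplicit false
set_option maxRecDepth 1000000

/-!
# The exhaustive search checker (`search`), with its soundness

The search extends an assignment by all candidate points; a full assignment must be carried by one of the words of
`X` to the standard tuple or to its image under the diagram automorphism.
-/

namespace Cfsg.Agent.Helper92.Fi22O

open Cfsg.Agent.Helper28 Cfsg.Agent.Helper28.Fi22b Cfsg.Agent.Helper28.Fi22C Cfsg.Spor
open Cfsg.Agent.Helper56.Fi22T Cfsg.Agent.Helper92.Fi23T Cfsg.Agent.Helper92.Fi22S Cfsg.Agent.Helper92.Fi23O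

/-- the standard points -/
noncomputable def stdP : List Pt := pts stdA

/-- the standard tuple -/
def stdL : List ℕ := [10, 34, 86, 12, 59, 14, 0, 110, 173]

/-- the image of the standard tuple under the diagram automorphism -/
def sigL : List ℕ := [10, 34, 86, 59, 12, 110, 173, 14, 0]

/-- the points of the image of the standard tuple under the diagram automorphism -/
noncomputable def sigP : List Pt := sigL.map toPt

theorem stdP_eq : stdP = stdL.map toPt := rfl

theorem length_stdP : stdP.length = 9 := by
  unfold stdP pts; rw [List.length_map]; rfl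

theorem length_pts (A : List (ℕ × List ℕ)) : (pts A).length = A.length := by
  unfold pts; rw [List.length_map]

theorem pts_append (A : List (ℕ × List ℕ)) (e : ℕ × List ℕ) : pts (A ++ [e]) = pts A ++ [toPt e.1] := by
  unfold pts; rw [List.map_append]; rfl

/-- abstract candidates are candidates of the checker -/
theorem cand_of_Cand (A : List (ℕ × List ℕ)) (hA : ∀ e ∈ A, VA e) (Q : Pt) (h : TM.Cand adjB (pts A) Q) :
    candAux A.length Q.val 0 A = true := by
  rw [candAux_iff A.length Q A 0 hA]
  intro i a hia
  have := h i a hia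
  rw [length_pts] at this
  rw [Nat.zero_add]
  exact this

/-! ## Words of further points -/

/-- lookup in a list of entries `(q, j, u)`: the point `q` is the image of the standard point number `j` under the
word `u` -/
def twLook : List (ℕ × ℕ × List ℕ) → ℕ → ℕ × List ℕ
  | [], _ => (9, [])
  | e :: L, q => cond (Nat.beq e.1 q) e.2 (twLook L q)

/-- the entry of an assignment for the point `q` -/
noncomputable def twEntry (L : List (ℕ × ℕ × List ℕ)) (q : ℕ) : ℕ × List ℕ :=
  (q, invW (twLook L q).2 ++ ((stdA.getD (twLook L q).1 (0, [])).2 ++ (twLook L q).2))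

/-- the entry is correct -/
noncomputable def twValid (L : List (ℕ × ℕ × List ℕ)) (q : ℕ) : Bool :=
  Nat.blt (twLook L q).1 9 && (lettersB (twLook L q).2 &&
    Nat.beq (trace ptabs.perm (twLook L q).2 (stdA.getD (twLook L q).1 (0, [])).1) q)

theorem twValid_sound (L : List (ℕ × ℕ × List ℕ)) (q : ℕ) (hq : q < ptabs.n) (h : twValid L q = true) :
    VA (twEntry L q) := by
  unfold twValid at h
  rw [Bool.and_eq_true, Bool.and_eq_true] at h
  obtain ⟨h1, h2, h3⟩ := h
  rw [Nat.blt_eq] at h1
  have h3' := (nbeq_eq _ _).mp h3
  set j := (twLook L q).1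
  set u := (twLook L q).2
  have hj : j < stdA.length := h1
  have hst : stdA.getD j (0, []) = stdA[j] := List.getD_eq_getElem _ _ hj
  have hmem : stdA[j] ∈ stdA := List.getElem_mem hj
  obtain ⟨hl, hlt, hW⟩ := VA_std _ hmem
  unfold twEntry
  rw [hst] at h3' ⊢
  refine ⟨?_, hq, ?_⟩
  · exact lettersB_append _ _ (lettersB_invW _ h2) (lettersB_append _ _ hl h2)
  · show W (invW u ++ (stdA[j].2 ++ u)) = tau (toPt q)
    rw [toPt_of_lt _ hlt] at hW
    rw [tau_word _ u h2 _ hW, toPt_of_lt _ hq]
    congr 1
    apply Fin.ext
    exact h3'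

/-! ## Leaves -/

/-- equality of lists of numbers -/
def eqL : List ℕ → List ℕ → Bool
  | [], [] => true
  | a :: l, b :: m => Nat.beq a b && eqL l m
  | _, _ => false

theorem eqL_sound : ∀ (l m : List ℕ), eqL l m = true → l = m := by
  intro l
  induction l with
  | nil =>
    intro m h
    cases m with
    | nil => rfl
    | cons b m => simp [eqL] at h
  | cons a l ih =>
    intro m h
    cases m with
    | nil => simp [eqL] at h
    | cons b m =>
      rw [eqL, Bool.and_eq_true] at h
      rw [(nbeq_eq _ _).mp h.1, ih m h.2]

/-- a word of `X` carries the points of `A` to the standard tuple or to its image under the diagram automorphism -/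
noncomputable def leafB (X : List (List ℕ)) (A : List (ℕ × List ℕ)) : Bool :=
  X.any (fun x => lettersB x && (eqL (A.map (fun e => trace ptabs.perm x e.1)) stdL ||
    eqL (A.map (fun e => trace ptabs.perm x e.1)) sigL))

theorem map_rho_pts (x : List ℕ) (hx : lettersB x = true) (A : List (ℕ × List ℕ)) (hA : ∀ e ∈ A, VA e) :
    (pts A).map (TM.ρ (W x)⁻¹) = (A.map (fun e => trace ptabs.perm x e.1)).map toPt := by
  unfold pts
  rw [List.map_map, List.map_map]
  apply List.map_congr_left
  intro e he
  have hlt := (hA e he).2.1
  show rho (W x)⁻¹ (toPt e.1) = toPt (trace ptabs.perm x e.1)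
  rw [toPt_of_lt _ hlt, toPt_of_lt _ (trace_lt x hx _ hlt)]
  apply Fin.ext
  have := rho_W_inv x hx ⟨e.1, hlt⟩
  rw [← map_inv] at this
  exact this

variable (N : Set (MulAut GG))

theorem leaf_sound (hN : ConjClosed N) (h1 : InnerN TM N stdP stdP) (h2 : InnerN TM N stdP sigP)
    (X : List (List ℕ)) (A : List (ℕ × List ℕ)) (hA : ∀ e ∈ A, VA e) (h : leafB X A = true) :
    InnerN TM N stdP (pts A) := by
  unfold leafB at h
  obtain ⟨x, _, hx⟩ := List.any_eq_true.mp h
  rw [Bool.and_eq_true, Bool.or_eq_true] at hx
  obtain ⟨hl, hx⟩ := hx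
  apply innerN_of_map TM N stdP hN (W x)⁻¹
  rw [map_rho_pts x hl A hA]
  rcases hx with hx | hx
  · rw [eqL_sound _ _ hx]; exact h1
  · rw [eqL_sound _ _ hx]; exact h2

/-! ## Exhaustive search -/

/-- every continuation of the assignment `A` ends in a leaf (search of depth at most `f`) -/
noncomputable def search (L : List (ℕ × ℕ × List ℕ)) (X : List (List ℕ)) : ℕ → List (ℕ × List ℕ) → Bool
  | 0, _ => false
  | f + 1, A => cond (Nat.blt A.length 9)
      (allLt (fun q => (!(candAux A.length q 0 A)) || (twValid L q && search L X f (A ++ [twEntry L q]))) ptabs.n)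
      (leafB X A)

theorem search_sound (hN : ConjClosed N) (h1 : InnerN TM N stdP stdP) (h2 : InnerN TM N stdP sigP)
    (hstd : TM.Std stdP adjB) (L : List (ℕ × ℕ × List ℕ)) (X : List (List ℕ)) :
    ∀ (f : ℕ) (A : List (ℕ × List ℕ)), (∀ e ∈ A, VA e) → search L X f A = true → InnerN TM N stdP (pts A) := by
  intro f
  induction f with
  | zero => intro A _ h; simp [search] at h
  | succ f ih =>
    intro A hA h
    rw [search] at h
    cases hlen : Nat.blt A.length 9 with
    | false =>
      rw [hlen, cond_false] at h
      exact leaf_sound N hN h1 h2 X A hA h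
    | true =>
      rw [hlen, cond_true] at h
      rw [Nat.blt_eq] at hlen
      apply innerN_of_cands TM N stdP adjB hstd (pts A) (by rw [length_pts, length_stdP]; exact hlen)
      intro Q hQ
      have hc := cand_of_Cand A hA Q hQ
      have h1' := allLt_sound _ _ h Q.val Q.2
      rw [hc] at h1'
      simp only [Bool.not_true, Bool.false_or, Bool.and_eq_true] at h1'
      have hva := twValid_sound L Q.val Q.2 h1'.1
      have h2' := ih (A ++ [twEntry L Q.val]) ?_ h1'.2
      · rw [pts_append] at h2'
        have e : toPt (twEntry L Q.val).1 = Q := toPt_val Q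
        rw [e] at h2'
        exact h2'
      · intro e he
        rcases List.mem_append.mp he with he | he
        · exact hA e he
        · rw [List.mem_singleton] at he
          rw [he]; exact hva

end Cfsg.Agent.Helper92.Fi22O
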