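import Cfsg.Agent.Helper92.Fi22O.CertE

set_option autoImplicit false
set_option maxRecDepth 1000000

/-!
# The class of transpositions of `Fi22` is invariant under all automorphisms

An automorphism `β` may be changed by an inner automorphism so that it stabilises the Sylow 2-subgroup `T0`, hence
its unique normal elementary abelian subgroup `E0` of order `2^10`.  The non-identity elements of `E0` fall into
three conjugacy classes of the group meeting `E0` in 22, 231 and 770 elements, so `β` fixes each of them.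
-/

namespace Cfsg.Agent.Helper92.Fi22O

open Cfsg.Agent.Helper28 Cfsg.Agent.Helper28.Fi22b Cfsg.Agent.Helper28.Fi22C Cfsg.Spor
open Cfsg.Agent.Helper56.Fi22T Cfsg.Agent.Helper92.Fi23T Cfsg.Agent.Helper92.Fi23S Cfsg.Agent.Helper92.Fi22S
open Cfsg.Agent.Helper92.Fi23O

open Classical

/-- the colour of a vector -/
def colOf (v : ℕ) : ℕ := cCol (cEnt colTab v)

theorem col_fact (v : ℕ) (hv0 : 0 < v) (hv : v < 1024) :
    (colOf v = 1 ∨ colOf v = 2 ∨ colOf v = 3) ∧ IsConj (dl v) (dl (rootOf (colOf v))) :=
  col_sound ((twords ++ [nword]).map W) (Ms ++ [Nmat])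
    (actCheck_sound dwords (twords ++ [nword]) (Ms ++ [Nmat]) actAll_ok) colTab col_ok _ v hv0 hv rfl

theorem dl_word (v : ℕ) : dl v = W (wordL dwords v) := (W_wordL dwords v).symm

theorem dl_zero : dl 0 = 1 := prodL_zero ds

theorem dl_inj (v w : ℕ) (hv : v < 1024) (hw : w < 1024) (h : dl v = dl w) : v = w :=
  model.δinjOn v w hv hw h

theorem dl_mem (v : ℕ) (hv : v < 1024) : dl v ∈ E0 := model.hδE v hv

theorem exists_dl (x : GG) (hx : x ∈ E0) : ∃ v < 1024, x = dl v := model.hE x hx

theorem not_conj_2_6 : ¬ IsConj (dl 2) (dl 6) := by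
  intro h
  rw [dl_word, dl_word] at h
  have := fixCount_eq_of_conj _ _ (by decide) (by decide) h
  rw [fix2, fix6] at this
  omega

theorem not_conj_2_14 : ¬ IsConj (dl 2) (dl 14) := by
  intro h
  rw [dl_word, dl_word] at h
  have := fixCount_eq_of_conj _ _ (by decide) (by decide) h
  rw [fix2, fix14] at this
  omega

/-- the vectors of a colour -/
noncomputable def colSet (k : ℕ) : Finset (Fin 1024) := Finset.univ.filter (fun j : Fin 1024 => colOf j.val = k)

theorem card_colSet (k : ℕ) : (colSet k).card = countEq (fun v => cCol (cEnt colTab v)) k 1024 :=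
  card_filter_eq_countEq _ k 1024

/-- the elements of `E0` of a colour -/
noncomputable def colElts (k : ℕ) : Finset GG := (colSet k).image (fun j => dl j.val)

theorem card_colElts (k : ℕ) : (colElts k).card = (colSet k).card := by
  apply Finset.card_image_of_injOn
  intro i _ j _ h
  exact Fin.ext (dl_inj _ _ i.2 j.2 h)

theorem dl_two_ne_one : dl 2 ≠ 1 := by
  intro h
  rw [← dl_zero] at h
  have := dl_inj 2 0 (by norm_num) (by norm_num) h
  omega

/-- the elements of `E0` conjugate to `dl 2` have colour 1 -/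
theorem conj_subset : {x : GG | x ∈ E0 ∧ IsConj (dl 2) x} ⊆ ↑(colElts 1) := by
  rintro x ⟨hx, hc⟩
  obtain ⟨v, hv, rfl⟩ := exists_dl x hx
  have hv0 : 0 < v := by
    rcases Nat.eq_zero_or_pos v with h0 | h0
    · exfalso
      rw [h0, dl_zero] at hc
      have := hc.symm
      rw [isConj_one_right] at this
      exact dl_two_ne_one this
    · exact h0
  obtain ⟨hcol, hconj⟩ := col_fact v hv0 hv
  have hc2 := hc.trans hconj
  rw [Finset.mem_coe]
  unfold colElts colSet
  rw [Finset.mem_image]
  refine ⟨⟨v, hv⟩, ?_, rfl⟩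
  rw [Finset.mem_filter]
  refine ⟨Finset.mem_univ _, ?_⟩
  rcases hcol with h1 | h2 | h3
  · exact h1
  · exfalso
    rw [h2] at hc2
    exact not_conj_2_6 hc2
  · exfalso
    rw [h3] at hc2
    exact not_conj_2_14 hc2

/-- the elements of colour `k` are conjugate to every element of colour `k` -/
theorem subset_conj (y : GG) (v0 : ℕ) (hv0 : 0 < v0) (hv : v0 < 1024) (hy : y = dl v0) (hk : colOf v0 ≠ 1) :
    (↑(colElts (colOf v0)) : Set GG) ⊆ {x : GG | x ∈ E0 ∧ IsConj y x} := by
  intro x hx
  rw [Finset.mem_coe] at hx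
  unfold colElts colSet at hx
  rw [Finset.mem_image] at hx
  obtain ⟨j, hj, rfl⟩ := hx
  rw [Finset.mem_filter] at hj
  have hjc : colOf j.val = colOf v0 := hj.2
  have hj0 : 0 < j.val := by
    rcases Nat.eq_zero_or_pos j.val with h0 | h0
    · exfalso
      rw [h0] at hjc
      have e0 : colOf 0 = 0 := by decide +kernel
      rw [e0] at hjc
      have := (col_fact v0 hv0 hv).1
      omega
    · exact h0
  refine ⟨dl_mem _ j.2, ?_⟩
  have h1 := (col_fact v0 hv0 hv).2
  have h2 := (col_fact j.val hj0 j.2).2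
  rw [hjc] at h2
  rw [hy]
  exact h1.trans h2.symm

/-- an automorphism stabilising `T0` stabilises `E0` -/
theorem map_E0 (β : MulAut GG) (hT : T0.map β.toMonoidHom = T0) : E0.map β.toMonoidHom = E0 := by
  have M' : PcModel22 T0 (E0.map β.toMonoidHom) := hT ▸ model.map β
  obtain ⟨A, _, huniq⟩ := model.final.2
  have h1 := huniq E0 ⟨model.hET, model.subgroupOf_normal, model.isElementaryAbelian_E, by
    rw [model.card_E]; norm_num⟩
  have h2 := huniq (E0.map β.toMonoidHom) ⟨M'.hET, M'.subgroupOf_normal, M'.isElementaryAbelian_E, by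
    rw [M'.card_E]; norm_num⟩
  exact h2.trans h1.symm

theorem conj_of_stab (β : MulAut GG) (hT : T0.map β.toMonoidHom = T0) : IsConj (dl 2) (β (dl 2)) := by
  have hE := map_E0 β hT
  have hyE : β (dl 2) ∈ E0 := by
    rw [← hE]
    exact Subgroup.mem_map_of_mem _ (dl_mem 2 (by norm_num))
  obtain ⟨v0, hv, hy⟩ := exists_dl _ hyE
  have hv0 : 0 < v0 := by
    rcases Nat.eq_zero_or_pos v0 with h0 | h0
    · exfalso
      rw [h0, dl_zero] at hy
      have : β (dl 2) = β 1 := by rw [hy, map_one]
      exact dl_two_ne_one (β.injective this)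
    · exact h0
  obtain ⟨hcol, hconj⟩ := col_fact v0 hv0 hv
  by_cases hk : colOf v0 = 1
  · rw [hk] at hconj
    rw [hy]
    exact hconj.symm
  · exfalso
    have := finite_GF22
    -- the two sets
    have hS : {x : GG | x ∈ E0 ∧ IsConj (dl 2) x}.Finite := Set.toFinite _
    have hle1 : {x : GG | x ∈ E0 ∧ IsConj (dl 2) x}.ncard ≤ 22 := by
      calc {x : GG | x ∈ E0 ∧ IsConj (dl 2) x}.ncard ≤ (↑(colElts 1) : Set GG).ncard :=
            Set.ncard_le_ncard conj_subset (Finset.finite_toSet _)
        _ = (colElts 1).card := Set.ncard_coe_finset _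
        _ = 22 := by rw [card_colElts, card_colSet, cnt1]
    have hle2 : {x : GG | x ∈ E0 ∧ IsConj (β (dl 2)) x}.ncard ≤ {x : GG | x ∈ E0 ∧ IsConj (dl 2) x}.ncard := by
      apply Set.ncard_le_ncard_of_injOn (fun x => β.symm x)
      · rintro x ⟨hx, hc⟩
        refine ⟨?_, ?_⟩
        · rw [← hE] at hx
          obtain ⟨e, he, rfl⟩ := Subgroup.mem_map.mp hx
          show β.symm (β e) ∈ E0
          rw [MulEquiv.symm_apply_apply]
          exact he
        · obtain ⟨c, hc'⟩ := isConj_iff.mp hc
          rw [isConj_iff]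
          refine ⟨β.symm c, ?_⟩
          show β.symm c * dl 2 * (β.symm c)⁻¹ = β.symm x
          rw [← hc', map_mul, map_mul, map_inv, MulEquiv.symm_apply_apply]
      · intro x _ x' _ h
        exact β.symm.injective h
    have hge : 231 ≤ {x : GG | x ∈ E0 ∧ IsConj (β (dl 2)) x}.ncard := by
      calc 231 ≤ (colElts (colOf v0)).card := by
            rw [card_colElts, card_colSet]
            rcases hcol with h1 | h2 | h3
            · exact absurd h1 hk
            · rw [h2, cnt2]
            · rw [h3, cnt3]; norm_num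
        _ = (↑(colElts (colOf v0)) : Set GG).ncard := (Set.ncard_coe_finset _).symm
        _ ≤ _ := Set.ncard_le_ncard (subset_conj _ v0 hv0 hv hy hk) (Set.toFinite _)
    omega

/-- the transposition `a` is conjugate to its image under every automorphism -/
theorem conj_of_aut (β : MulAut GG) : IsConj (dl 2) (β (dl 2)) := by
  haveI : Fact (Nat.Prime 2) := ⟨Nat.prime_two⟩
  have hc0 : Nat.card T0 = 2 ^ (Nat.card GG).factorization 2 := by
    rw [model.card_T, card_GF22, factorization_two]
  have hc1 : Nat.card (T0.map β.toMonoidHom) = 2 ^ (Nat.card GG).factorization 2 := by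
    rw [← hc0]
    exact Subgroup.card_map_of_injective β.injective
  let P0 : Sylow 2 GG := Sylow.ofCard T0 hc0
  let P1 : Sylow 2 GG := Sylow.ofCard (T0.map β.toMonoidHom) hc1
  obtain ⟨g, hg⟩ := MulAction.exists_smul_eq GG P0 P1
  have hT : T0.map (MulAut.conj g).toMonoidHom = T0.map β.toMonoidHom := by
    have h1 : ((g • P0 : Sylow 2 GG) : Subgroup GG) = (P1 : Subgroup GG) := by rw [hg]
    rw [Sylow.coe_subgroup_smul, Sylow.coe_ofCard, Sylow.coe_ofCard, Subgroup.pointwise_smul_def] at h1
    exact h1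
  have hT' : T0.map ((MulAut.conj g)⁻¹ * β).toMonoidHom = T0 := by
    have e : ((MulAut.conj g)⁻¹ * β).toMonoidHom =
        ((MulAut.conj g)⁻¹).toMonoidHom.comp β.toMonoidHom := rfl
    rw [e, ← Subgroup.map_map, ← hT, Subgroup.map_map]
    have e2 : ((MulAut.conj g)⁻¹).toMonoidHom.comp (MulAut.conj g).toMonoidHom = MonoidHom.id GG := by
      apply MonoidHom.ext
      intro x
      show (MulAut.conj g)⁻¹ (MulAut.conj g x) = x
      rw [MulAut.inv_apply_self]
    rw [e2, Subgroup.map_id]
  have h2 := conj_of_stab _ hT'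
  have h3 : β (dl 2) = g * (((MulAut.conj g)⁻¹ * β) (dl 2)) * g⁻¹ := by
    rw [MulAut.mul_apply, MulAut.conj_inv_apply]
    group
  rw [h3]
  exact h2.trans (isConj_iff.mpr ⟨g, rfl⟩)

end Cfsg.Agent.Helper92.Fi22O
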