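import Cfsg.Agent.Helper56.Fi22T
import Cfsg.Agent.Helper92.Fi22S.Base
import Cfsg.Agent.Helper92.Fi23O.Rigid

set_option autoImplicit false
set_option maxRecDepth 1000000

/-!
# The dictionary between the 3510 points of the coset table and the transpositions of `Fi22`

The point `0` has stabiliser `K0 = C(a)`, so `q ↦ g a g⁻¹` (`g` any element carrying `0` to `q`) is a bijection from
the points onto the class of `a`, equivariant for conjugation.  Words in the generators act on points by `trace`.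
-/

namespace Cfsg.Agent.Helper92.Fi22O

open Cfsg.Agent.Helper28 Cfsg.Agent.Helper28.Fi22b Cfsg.Agent.Helper28.Fi22C Cfsg.Spor
open Cfsg.Agent.Helper56.Fi22T Cfsg.Agent.Helper92.Fi23T Cfsg.Agent.Helper92.Fi22S Cfsg.Agent.Helper92.Fi23O

/-- the points -/
abbrev Pt : Type := Fin ptabs.n

/-- the permutation representation -/
noncomputable def rho : GG →* Equiv.Perm Pt := rhoG Fi22b.R idx 9 ptabs inv_ok layout.hL Fi22C.hrels

/-- the base point -/
def pt0 : Pt := ⟨0, Fi22b.hn⟩

theorem stab0 (y : GG) : rho y pt0 = pt0 ↔ y ∈ K0 :=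
  (cox_cert inv_ok layout Fi22b.hn defs_ok 28188 facts_upto3 fin_ok par_ok hperm_all subfix_all).2.1 y

theorem trans0 (x : Pt) : ∃ y : GG, rho y pt0 = x :=
  (cox_cert inv_ok layout Fi22b.hn defs_ok 28188 facts_upto3 fin_ok par_ok hperm_all subfix_all).2.2 x

/-- the transposition of a point -/
noncomputable def tau (q : Pt) : GG :=
  Classical.choose (trans0 q) * gx .a * (Classical.choose (trans0 q))⁻¹

theorem tau_eq (g : GG) (q : Pt) (h : rho g pt0 = q) : tau q = g * gx .a * g⁻¹ := by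
  unfold tau
  have h0 := Classical.choose_spec (trans0 q)
  set g0 := Classical.choose (trans0 q)
  have hk : g0⁻¹ * g ∈ K0 := by
    rw [← stab0, map_mul, Equiv.Perm.mul_apply, h, ← h0, map_inv, Equiv.Perm.inv_eq_iff_eq]
  have hc := a_central _ hk
  calc g0 * gx .a * g0⁻¹ = g0 * (gx .a * (g0⁻¹ * g)) * g⁻¹ := by group
    _ = g0 * ((g0⁻¹ * g) * gx .a) * g⁻¹ := by rw [hc]
    _ = g * gx .a * g⁻¹ := by group

theorem tau_conj (g : GG) (q : Pt) : g * tau q * g⁻¹ = tau (rho g q) := by
  obtain ⟨g0, hg0⟩ := trans0 q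
  rw [tau_eq g0 q hg0, tau_eq (g * g0) (rho g q) (by rw [map_mul, Equiv.Perm.mul_apply, hg0])]
  group

theorem tau_inj : Function.Injective tau := by
  intro q q' h
  obtain ⟨g0, hg0⟩ := trans0 q
  obtain ⟨g1, hg1⟩ := trans0 q'
  rw [tau_eq g0 q hg0, tau_eq g1 q' hg1] at h
  have hk : g1⁻¹ * g0 ∈ K0 := by
    rw [← cent_a, mem_cent_iff]
    calc g1⁻¹ * g0 * gx .a = g1⁻¹ * (g0 * gx .a * g0⁻¹) * g0 := by group
      _ = g1⁻¹ * (g1 * gx .a * g1⁻¹) * g0 := by rw [h]
      _ = gx .a * (g1⁻¹ * g0) := by group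
  rw [← stab0, map_mul, Equiv.Perm.mul_apply, hg0, map_inv, Equiv.Perm.inv_eq_iff_eq, hg1] at hk
  exact hk

/-- the transposition model of `Fi22` -/
noncomputable def TM : TModel GG Pt where
  ρ := rho
  τ := tau
  conj := tau_conj
  inj := tau_inj

theorem tau_pt0 : tau pt0 = gx .a := by
  rw [tau_eq 1 pt0 (by rw [map_one]; rfl)]
  group

theorem mem_class_iff (y : GG) : y ∈ conjugatesOf (gx .a) ↔ ∃ q, y = tau q := by
  rw [mem_conjOf_iff]
  constructor
  · rintro ⟨c, rfl⟩
    exact ⟨rho c pt0, (tau_eq c _ rfl).symm⟩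
  · rintro ⟨q, rfl⟩
    obtain ⟨g0, hg0⟩ := trans0 q
    exact ⟨g0, (tau_eq g0 q hg0).symm⟩

/-! ## Words -/

/-- all letters are letter codes -/
def lettersB (w : List ℕ) : Bool := w.all (fun l => Nat.blt l 18)

theorem rho_W_inv (w : List ℕ) (hw : lettersB w = true) (i : Pt) :
    ((rho (W w))⁻¹ i).val = trace ptabs.perm w i.val := by
  have h := rhoF_ev_inv gen idx 9 ptabs inv_ok layout.hL layout.hig w (letters_of_all w hw) i
  rw [W_eq_mk]
  exact h

theorem trace_lt (w : List ℕ) (hw : lettersB w = true) (i : ℕ) (hi : i < ptabs.n) :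
    trace ptabs.perm w i < ptabs.n := by
  have h := rho_W_inv w hw ⟨i, hi⟩
  rw [← h]
  exact Fin.is_lt _

/-- conjugating the transposition of a point by a word -/
theorem tau_conj_word (w : List ℕ) (hw : lettersB w = true) (q : Pt) :
    (W w)⁻¹ * tau q * W w = tau ⟨trace ptabs.perm w q.val, trace_lt w hw q.val q.2⟩ := by
  have h := tau_conj (W w)⁻¹ q
  rw [inv_inv] at h
  rw [h]
  congr 1
  apply Fin.ext
  rw [map_inv]
  exact rho_W_inv w hw q

theorem lettersB_append (u w : List ℕ) (hu : lettersB u = true) (hw : lettersB w = true) :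
    lettersB (u ++ w) = true := by
  unfold lettersB at *
  rw [List.all_append, hu, hw]; rfl

theorem lettersB_invW (w : List ℕ) (hw : lettersB w = true) : lettersB (invW w) = true := by
  unfold lettersB invW at *
  rw [List.all_eq_true] at hw ⊢
  intro l hl
  rw [List.mem_reverse, List.mem_map] at hl
  obtain ⟨l0, hl0, rfl⟩ := hl
  have h0 := hw l0 hl0
  rw [Nat.blt_eq] at h0 ⊢
  exact flipL_lt l0 9 h0

/-- the word of a transposition: if `W t = tau p` then `W (u⁻¹ t u) = tau (p · u)` -/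
theorem tau_word (t u : List ℕ) (hu : lettersB u = true) (p : Pt) (ht : W t = tau p) :
    W (invW u ++ (t ++ u)) = tau ⟨trace ptabs.perm u p.val, trace_lt u hu p.val p.2⟩ := by
  rw [W_append, W_append, W_invW, ht, ← tau_conj_word u hu p]
  group

end Cfsg.Agent.Helper92.Fi22O
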