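import Cfsg.Agent.Helper92.Fi22S.Main
import Cfsg.Agent.Helper92.Fi22O.Dict

set_option autoImplicit false
set_option maxRecDepth 1000000

/-!
# Conjugacy classes of the elements of `E0`: the colouring checker and fixed-point counts
-/

namespace Cfsg.Agent.Helper92.Fi22O

open Cfsg.Agent.Helper28 Cfsg.Agent.Helper28.Fi22b Cfsg.Agent.Helper28.Fi22C Cfsg.Spor
open Cfsg.Agent.Helper56.Fi22T Cfsg.Agent.Helper92.Fi23T Cfsg.Agent.Helper92.Fi23S Cfsg.Agent.Helper92.Fi22S
open Cfsg.Agent.Helper92.Fi23O

/-- the element of `E0` with coordinate vector `v` -/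
noncomputable def dl (v : ℕ) : GG := prodL ds v

/-- entry of the packed colouring table -/
def cEnt (tab v : ℕ) : ℕ := Nat.land (Nat.shiftRight tab (Nat.mul 12 v)) 4095
/-- depth -/
def cDep (e : ℕ) : ℕ := Nat.land (Nat.shiftRight e 4) 63
/-- colour -/
def cCol (e : ℕ) : ℕ := Nat.shiftRight e 10
/-- number of the matrix -/
def cGen (e : ℕ) : ℕ := Nat.land e 15

/-- the test for one vector -/
def colStep (Ns : List (List ℕ)) (tab v : ℕ) : Bool :=
  cond (Nat.beq (cDep (cEnt tab v)) 0)
    ((Nat.beq v 2 && Nat.beq (cCol (cEnt tab v)) 1) || ((Nat.beq v 6 && Nat.beq (cCol (cEnt tab v)) 2) ||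
      (Nat.beq v 14 && Nat.beq (cCol (cEnt tab v)) 3)))
    (Nat.blt (vmL (Ns.getD (cGen (cEnt tab v)) []) v) 1024 &&
      ((!(Nat.beq (vmL (Ns.getD (cGen (cEnt tab v)) []) v) 0)) &&
        (Nat.beq (cCol (cEnt tab (vmL (Ns.getD (cGen (cEnt tab v)) []) v))) (cCol (cEnt tab v)) &&
          Nat.blt (cDep (cEnt tab (vmL (Ns.getD (cGen (cEnt tab v)) []) v))) (cDep (cEnt tab v)))))

/-- the colouring checker -/
noncomputable def colB (Ns : List (List ℕ)) (tab : ℕ) : Bool :=
  allLt (fun v => Nat.beq v 0 || colStep Ns tab v) 1024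

/-- the root of a colour -/
def rootOf (k : ℕ) : ℕ := if k = 1 then 2 else if k = 2 then 6 else 14

theorem forall2_getD {α : Type*} (R : α → List ℕ → Prop) :
    ∀ (xs : List α) (Ns : List (List ℕ)), List.Forall₂ R xs Ns →
      ∀ g, (∃ x ∈ xs, R x (Ns.getD g [])) ∨ Ns.getD g [] = [] := by
  intro xs Ns h
  induction h with
  | nil => intro g; right; rfl
  | cons hd _ ih =>
    intro g
    cases g with
    | zero => left; exact ⟨_, List.mem_cons_self, hd⟩
    | succ g =>
      rcases ih g with ⟨x, hx, hR⟩ | h0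
      · left; exact ⟨x, List.mem_cons_of_mem _ hx, hR⟩
      · right; exact h0

theorem col_sound (xs : List GG) (Ns : List (List ℕ))
    (hact : List.Forall₂ (fun t M => List.Forall₂ (fun d r => t⁻¹ * d * t = prodL ds r) ds M) xs Ns)
    (tab : ℕ) (h : colB Ns tab = true) :
    ∀ d v, 0 < v → v < 1024 → cDep (cEnt tab v) = d →
      (cCol (cEnt tab v) = 1 ∨ cCol (cEnt tab v) = 2 ∨ cCol (cEnt tab v) = 3) ∧
        IsConj (dl v) (dl (rootOf (cCol (cEnt tab v)))) := by
  intro d
  induction d using Nat.strong_induction_on with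
  | _ d ih =>
    intro v hv0 hv hd
    have h1 := allLt_sound _ _ h v hv
    have hb0 : Nat.beq v 0 = false := by
      cases hb : Nat.beq v 0
      · rfl
      · exact absurd ((nbeq_eq _ _).mp hb) (by omega)
    rw [hb0, Bool.false_or] at h1
    unfold colStep at h1
    by_cases hd0 : d = 0
    · have hb : Nat.beq (cDep (cEnt tab v)) 0 = true := by rw [hd, hd0]; rfl
      rw [hb, cond_true] at h1
      simp only [Bool.or_eq_true, Bool.and_eq_true] at h1
      rcases h1 with ⟨h1, h2⟩ | ⟨h1, h2⟩ | ⟨h1, h2⟩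
      · have e1 := (nbeq_eq _ _).mp h1
        have e2 := (nbeq_eq _ _).mp h2
        rw [e2]
        exact ⟨Or.inl rfl, by rw [e1]; exact IsConj.refl _⟩
      · have e1 := (nbeq_eq _ _).mp h1
        have e2 := (nbeq_eq _ _).mp h2
        rw [e2]
        exact ⟨Or.inr (Or.inl rfl), by rw [e1]; exact IsConj.refl _⟩
      · have e1 := (nbeq_eq _ _).mp h1
        have e2 := (nbeq_eq _ _).mp h2
        rw [e2]
        exact ⟨Or.inr (Or.inr rfl), by rw [e1]; exact IsConj.refl _⟩
    · have hb : Nat.beq (cDep (cEnt tab v)) 0 = false := by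
        cases hb : Nat.beq (cDep (cEnt tab v)) 0
        · rfl
        · exact absurd ((nbeq_eq _ _).mp hb) (by rw [hd]; exact hd0)
      rw [hb, cond_false] at h1
      simp only [Bool.and_eq_true] at h1
      obtain ⟨hlt, hne, hcol, hdep⟩ := h1
      rw [Nat.blt_eq] at hlt hdep
      have hcol' := (nbeq_eq _ _).mp hcol
      set M := Ns.getD (cGen (cEnt tab v)) [] with hM
      have hne' : vmL M v ≠ 0 := by
        intro h0
        rw [h0] at hne
        simp at hne
      rcases forall2_getD _ xs Ns hact (cGen (cEnt tab v)) with ⟨x, _, hR⟩ | h0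
      · have hconj := conj_prodL ds commInv_ds x ds M hR v
        rw [hd] at hdep
        have h3 := ih _ hdep (vmL M v) (Nat.pos_of_ne_zero hne') hlt rfl
        rw [hcol'] at h3
        refine ⟨h3.1, IsConj.trans ?_ h3.2⟩
        rw [isConj_iff]
        exact ⟨x⁻¹, by rw [inv_inv]; exact hconj⟩
      · exfalso
        apply hne'
        rw [hM, h0]
        rfl

/-! ## Fixed points -/

/-- the number of fixed points of a word -/
noncomputable def fixCount (w : List ℕ) : ℕ :=
  countEq (fun i => Nat.add (Nat.sub (trace ptabs.perm w i) i) (Nat.sub i (trace ptabs.perm w i))) 0 ptabs.n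

theorem card_fixed_conj (x y : GG) (h : IsConj x y) :
    (Finset.univ.filter (fun j : Pt => rho x j = j)).card = (Finset.univ.filter (fun j : Pt => rho y j = j)).card := by
  obtain ⟨c, hc⟩ := isConj_iff.mp h
  apply Finset.card_equiv (rho c)
  intro j
  simp only [Finset.mem_filter, Finset.mem_univ, true_and]
  rw [← hc, map_mul, map_mul, map_inv, Equiv.Perm.mul_apply, Equiv.Perm.mul_apply, Equiv.Perm.inv_def,
    Equiv.symm_apply_apply]
  exact (rho c).injective.eq_iff.symm

theorem card_fixed_word (w : List ℕ) (hw : lettersB w = true) :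
    (Finset.univ.filter (fun j : Pt => rho (W w) j = j)).card = fixCount w := by
  unfold fixCount
  rw [← card_filter_eq_countEq]
  congr 1
  ext j
  simp only [Finset.mem_filter, Finset.mem_univ, true_and]
  have h1 := rho_W_inv w hw j
  have h2 : rho (W w) j = j ↔ (rho (W w))⁻¹ j = j := by
    rw [Equiv.Perm.inv_eq_iff_eq]; exact eq_comm
  rw [h2, Fin.ext_iff, h1]
  show _ ↔ (trace ptabs.perm w j.val - j.val) + (j.val - trace ptabs.perm w j.val) = 0
  omega

theorem fixCount_eq_of_conj (w1 w2 : List ℕ) (h1 : lettersB w1 = true) (h2 : lettersB w2 = true)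
    (h : IsConj (W w1) (W w2)) : fixCount w1 = fixCount w2 := by
  rw [← card_fixed_word w1 h1, ← card_fixed_word w2 h2]
  exact card_fixed_conj _ _ h

end Cfsg.Agent.Helper92.Fi22O
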