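import Cfsg.Agent.Helper92.Fi22O.Dict

set_option autoImplicit false
set_option maxRecDepth 1000000

/-!
# The points of the nine generators
-/

namespace Cfsg.Agent.Helper92.Fi22O

open Cfsg.Agent.Helper28 Cfsg.Agent.Helper28.Fi22b Cfsg.Agent.Helper28.Fi22C Cfsg.Spor
open Cfsg.Agent.Helper56.Fi22T Cfsg.Agent.Helper92.Fi23T Cfsg.Agent.Helper92.Fi22S Cfsg.Agent.Helper92.Fi23O

theorem W_single (k : ℕ) (hk : k < 9) : W [2 * k] = gx (gen k) := by
  unfold W
  rw [wv_cons, wv_nil, mul_one]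
  unfold lam gG gF
  have h1 : 2 * k % 2 = 0 := by omega
  have h2 : 2 * k / 2 = k := by omega
  rw [if_pos h1, h2, if_pos hk]
  rfl

theorem a_eq : gx .a = tau ⟨0, Fi22b.hn⟩ := tau_pt0.symm

/-- from a generator to an adjacent one -/
theorem step_eq (x y : Fi22.Gen) (hxy : coxLabel Fi22.edges x y = 3) (p : Pt) (hx : gx x = tau p)
    (q : ℕ) (hq : trace ptabs.perm [2 * idx y, 2 * idx x] p.val = q) :
    ∃ hlt : q < ptabs.n, gx y = tau ⟨q, hlt⟩ := by
  have hl : lettersB [2 * idx y, 2 * idx x] = true := by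
    cases x <;> cases y <;> decide
  have hlt : q < ptabs.n := by rw [← hq]; exact trace_lt _ hl p.val p.2
  refine ⟨hlt, ?_⟩
  have h3 := cox_rel x y
  rw [hxy] at h3
  have hb := braid_conj' (gx x) (gx y) (gx_sq x) (gx_sq y) h3
  have hxi : (gx x)⁻¹ = gx x := inv_eq_of_mul_eq_one_right (gx_sq x)
  have hyi : (gx y)⁻¹ = gx y := inv_eq_of_mul_eq_one_right (gx_sq y)
  have hW : W [2 * idx y, 2 * idx x] = gx y * gx x := by
    have e : [2 * idx y, 2 * idx x] = [2 * idx y] ++ [2 * idx x] := rfl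
    rw [e, W_append, W_single _ (by cases y <;> decide), W_single _ (by cases x <;> decide)]
    congr 1
    · cases y <;> rfl
    · cases x <;> rfl
  have h4 : gx y = (W [2 * idx y, 2 * idx x])⁻¹ * tau p * W [2 * idx y, 2 * idx x] := by
    have hb' : gx x * gx y * gx x * (gx y * gx x) = gx y := by
      rw [mul_inv_rev, hxi, hyi] at hb; exact hb
    rw [hW, ← hx, mul_inv_rev, hxi, hyi]
    exact hb'.symm
  rw [h4, tau_conj_word _ hl p]
  congr 1
  apply Fin.ext
  exact hq

/-- the point of a generator -/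
def gpt : Fi22.Gen → ℕ
  | .a => 0 | .b => 14 | .c => 12 | .d => 10 | .e => 59 | .f => 110 | .g => 173 | .h => 34 | .i => 86

theorem gpt_lt (x : Fi22.Gen) : gpt x < ptabs.n := by cases x <;> decide +kernel

/-- every generator is the transposition of its point -/
theorem gx_eq_tau (x : Fi22.Gen) : gx x = tau ⟨gpt x, gpt_lt x⟩ := by
  have ha := a_eq
  obtain ⟨_, hb⟩ := step_eq .a .b (by decide) _ ha 14 (by show trace ptabs.perm [2, 0] 0 = 14; decide +kernel)
  obtain ⟨_, hc⟩ := step_eq .b .c (by decide) _ hb 12 (by show trace ptabs.perm [4, 2] 14 = 12; decide +kernel)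
  obtain ⟨_, hd⟩ := step_eq .c .d (by decide) _ hc 10 (by show trace ptabs.perm [6, 4] 12 = 10; decide +kernel)
  obtain ⟨_, he⟩ := step_eq .d .e (by decide) _ hd 59 (by show trace ptabs.perm [8, 6] 10 = 59; decide +kernel)
  obtain ⟨_, hf⟩ := step_eq .e .f (by decide) _ he 110 (by show trace ptabs.perm [10, 8] 59 = 110; decide +kernel)
  obtain ⟨_, hg⟩ := step_eq .f .g (by decide) _ hf 173 (by show trace ptabs.perm [12, 10] 110 = 173; decide +kernel)
  obtain ⟨_, hh⟩ := step_eq .d .h (by decide) _ hd 34 (by show trace ptabs.perm [14, 6] 10 = 34; decide +kernel)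
  obtain ⟨_, hi⟩ := step_eq .h .i (by decide) _ hh 86 (by show trace ptabs.perm [16, 14] 34 = 86; decide +kernel)
  cases x
  exacts [ha, hb, hc, hd, he, hf, hg, hh, hi]

end Cfsg.Agent.Helper92.Fi22O
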