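import Cfsg.Agent.Helper92.Fi22O.Sigma
import Cfsg.Agent.Helper28.Fi22a.Main

set_option autoImplicit false
set_option maxRecDepth 1000000

/-!
# The diagram automorphism of `Fi22` is not inner

The subgroup `⟨b, …, i⟩` is the stabiliser of the point `0` in the action on 14080 points.  If `sigma` were the
conjugation by `x`, the image `⟨a, b, c, d, e, f, h, i⟩` of this subgroup would fix the image of the point `0` under
`x`; but no point is fixed by these eight generators.
-/

namespace Cfsg.Agent.Helper92.Fi22O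

open Cfsg.Agent.Helper28 Cfsg.Spor
open Cfsg.Agent.Helper56.Fi22T Cfsg.Agent.Helper92.Fi23O

/-- the points of the second action -/
abbrev PtA : Type := Fin Fi22a.ptabs.n

/-- the permutation representation on 14080 points -/
noncomputable def rhoA : GG →* Equiv.Perm PtA :=
  rhoG Fi22a.R Fi22a.idx 9 Fi22a.ptabs Fi22a.inv_ok Fi22a.layout.hL
    (Fi22a.layout.hrels Fi22a.inv_ok Fi22a.hperm_all)

/-- the base point -/
def ptA0 : PtA := ⟨0, Fi22a.hn⟩

theorem stabA0 (y : GG) : rhoA y ptA0 = ptA0 ↔ y ∈ HH Fi22a.R Fi22a.Y :=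
  (cox_cert Fi22a.inv_ok Fi22a.layout Fi22a.hn Fi22a.defs_ok 120248 Fi22a.facts_upto24 Fi22a.fin_ok Fi22a.par_ok
    Fi22a.hperm_all Fi22a.subfix_all).2.1 y

theorem genA_mem (x : Fi22.Gen) (hx : FreeGroup.of x ∈ Fi22a.Ylist) : gx x ∈ HH Fi22a.R Fi22a.Y :=
  Subgroup.mem_map_of_mem _ (Subgroup.subset_closure hx)

/-- the action of a generator -/
theorem rhoA_gx (k : ℕ) (hk : k < 9) (i : PtA) :
    (rhoA (gx (Fi22a.gen k)) i).val = trace Fi22a.ptabs.perm [2 * k] i.val := by
  have hl : ∀ l ∈ [2 * k], l < Fi22a.ptabs.L := by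
    intro l hl
    rw [List.mem_singleton] at hl
    rw [hl, Fi22a.layout.hL]
    omega
  have h := rhoF_ev_inv Fi22a.gen Fi22a.idx 9 Fi22a.ptabs Fi22a.inv_ok Fi22a.layout.hL Fi22a.layout.hig
    [2 * k] hl i
  have hev : ev Fi22a.gen 9 [2 * k] = FreeGroup.of (Fi22a.gen k) := by
    unfold ev
    rw [wv_cons, wv_nil, mul_one]
    unfold lam gF
    have h1 : 2 * k % 2 = 0 := by omega
    have h2 : 2 * k / 2 = k := by omega
    rw [if_pos h1, h2, if_pos hk]
  rw [hev] at h
  have hinv : (gx (Fi22a.gen k))⁻¹ = gx (Fi22a.gen k) := inv_eq_of_mul_eq_one_right (gx_sq _)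
  rw [← h]
  show (rhoA (gx (Fi22a.gen k)) i).val = (((rhoA (gx (Fi22a.gen k)))⁻¹) i).val
  rw [← map_inv, hinv]

/-- no point is fixed by `a, b, c, d, e, f, h, i` -/
noncomputable def noFixB : Bool :=
  allLt (fun q => [0, 2, 4, 6, 8, 10, 14, 16].any
    (fun l => !(Nat.beq (trace Fi22a.ptabs.perm [l] q) q))) Fi22a.ptabs.n

theorem noFix_ok : noFixB = true := by decide +kernel

theorem sigma_not_inner : sigma ∉ TModel.InnS (G := GG) := by
  rintro ⟨x, hx⟩
  -- the image of the base point
  set Q : PtA := rhoA x ptA0 with hQ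
  have hfix : ∀ s : Fi22.Gen, FreeGroup.of s ∈ Fi22a.Ylist → rhoA (gx (sg s)) Q = Q := by
    intro s hs
    have h1 : rhoA (gx s) ptA0 = ptA0 := (stabA0 _).mpr (genA_mem s hs)
    have h2 : gx (sg s) = x * gx s * x⁻¹ := by
      rw [← sigma_gx, ← hx, MulAut.conj_apply]
    rw [h2, hQ, map_mul, map_mul, Equiv.Perm.mul_apply, Equiv.Perm.mul_apply, map_inv, Equiv.Perm.inv_def,
      Equiv.symm_apply_apply, h1]
  have h := allLt_sound _ _ noFix_ok Q.val Q.2
  obtain ⟨l, hl, hne⟩ := List.any_eq_true.mp h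
  have hne' : trace Fi22a.ptabs.perm [l] Q.val ≠ Q.val := by
    intro he
    rw [he] at hne
    simp at hne
  simp only [List.mem_cons, List.not_mem_nil, or_false] at hl
  rcases hl with rfl | rfl | rfl | rfl | rfl | rfl | rfl | rfl
  · apply hne'
    have := hfix .g (by simp [Fi22a.Ylist])
    rw [← rhoA_gx 0 (by norm_num)]
    exact congrArg Fin.val this
  · apply hne'
    have := hfix .f (by simp [Fi22a.Ylist])
    rw [← rhoA_gx 1 (by norm_num)]
    exact congrArg Fin.val this
  · apply hne'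
    have := hfix .e (by simp [Fi22a.Ylist])
    rw [← rhoA_gx 2 (by norm_num)]
    exact congrArg Fin.val this
  · apply hne'
    have := hfix .d (by simp [Fi22a.Ylist])
    rw [← rhoA_gx 3 (by norm_num)]
    exact congrArg Fin.val this
  · apply hne'
    have := hfix .c (by simp [Fi22a.Ylist])
    rw [← rhoA_gx 4 (by norm_num)]
    exact congrArg Fin.val this
  · apply hne'
    have := hfix .b (by simp [Fi22a.Ylist])
    rw [← rhoA_gx 5 (by norm_num)]
    exact congrArg Fin.val this
  · apply hne'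
    have := hfix .h (by simp [Fi22a.Ylist])
    rw [← rhoA_gx 7 (by norm_num)]
    exact congrArg Fin.val this
  · apply hne'
    have := hfix .i (by simp [Fi22a.Ylist])
    rw [← rhoA_gx 8 (by norm_num)]
    exact congrArg Fin.val this

end Cfsg.Agent.Helper92.Fi22O
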