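import Cfsg.Agent.Helper92.Fi22O.Check2

set_option autoImplicit false
set_option maxRecDepth 1000000

/-!
# The diagram automorphism of the presented group `Fi22`

The symmetry `a ↔ g`, `b ↔ f`, `c ↔ e` of the diagram preserves the Coxeter relators; the images of the three further
relators are trivial by the word problem.  It is an automorphism of order two carrying the standard tuple of
transpositions to the tuple `sigP`.
-/

namespace Cfsg.Agent.Helper92.Fi22O

open Cfsg.Agent.Helper28 Cfsg.Agent.Helper28.Fi22b Cfsg.Agent.Helper28.Fi22C Cfsg.Spor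
open Cfsg.Agent.Helper56.Fi22T Cfsg.Agent.Helper92.Fi23T Cfsg.Agent.Helper92.Fi22S Cfsg.Agent.Helper92.Fi23O

/-- the symmetry of the diagram -/
def sg : Fi22.Gen → Fi22.Gen
  | .a => .g | .b => .f | .c => .e | .d => .d | .e => .c | .f => .b | .g => .a | .h => .h | .i => .i

theorem sg_sg (x : Fi22.Gen) : sg (sg x) = x := by cases x <;> rfl

theorem coxLabel_sg (x y : Fi22.Gen) : coxLabel Fi22.edges (sg x) (sg y) = coxLabel Fi22.edges x y := by
  cases x <;> cases y <;> decide

/-- the images of the generators -/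
noncomputable def sgx (x : Fi22.Gen) : GG := gx (sg x)

theorem lift_sgx : FreeGroup.lift sgx = (PresentedGroup.mk Fi22b.R).comp (FreeGroup.map sg) := by
  apply FreeGroup.ext_hom
  intro x
  rw [FreeGroup.lift_apply_of, MonoidHom.comp_apply, FreeGroup.map.of]
  rfl

/-- the images of the three further relators, as words -/
def sw1 : List ℕ := (List.replicate 10 [6, 8, 10, 6, 4, 2, 6, 14, 16]).flatten
/-- second word -/
def sw2 : List ℕ := (List.replicate 9 [12, 10, 8, 6, 4, 2, 14]).flatten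
/-- third word -/
def sw3 : List ℕ := (List.replicate 9 [10, 8, 6, 4, 2, 0, 14]).flatten

theorem ev_sw1 : ev gen 9 sw1 =
    FreeGroup.map sg ((Fi22.d * Fi22.c * Fi22.b * Fi22.d * Fi22.e * Fi22.f * Fi22.d * Fi22.h * Fi22.i) ^ 10) := by
  decide +kernel

theorem ev_sw2 : ev gen 9 sw2 =
    FreeGroup.map sg ((Fi22.a * Fi22.b * Fi22.c * Fi22.d * Fi22.e * Fi22.f * Fi22.h) ^ 9) := by
  decide +kernel

theorem ev_sw3 : ev gen 9 sw3 =
    FreeGroup.map sg ((Fi22.b * Fi22.c * Fi22.d * Fi22.e * Fi22.f * Fi22.g * Fi22.h) ^ 9) := by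
  decide +kernel

theorem fix_sw1 : fixB sw1 = true := by decide +kernel

theorem fix_sw2 : fixB sw2 = true := by decide +kernel

theorem fix_sw3 : fixB sw3 = true := by decide +kernel

theorem sg_rels : ∀ r ∈ Fi22b.R, FreeGroup.lift sgx r = 1 := by
  intro r hr
  rcases hr with ⟨x, _, y, _, rfl⟩ | hr
  · rw [map_pow, map_mul, FreeGroup.lift_apply_of, FreeGroup.lift_apply_of, ← coxLabel_sg]
    exact cox_rel (sg x) (sg y)
  · have hr' : r ∈ Fi22.extra := hr
    rw [lift_sgx, MonoidHom.comp_apply]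
    simp only [Fi22.extra, List.mem_cons, List.not_mem_nil, or_false] at hr'
    rcases hr' with rfl | rfl | rfl
    · rw [← ev_sw1, ← W_eq_mk]; exact W_eq_one _ fix_sw1
    · rw [← ev_sw2, ← W_eq_mk]; exact W_eq_one _ fix_sw2
    · rw [← ev_sw3, ← W_eq_mk]; exact W_eq_one _ fix_sw3

/-- the diagram automorphism as an endomorphism -/
noncomputable def sigmaHom : GG →* GG := PresentedGroup.toGroup sg_rels

theorem sigmaHom_gx (x : Fi22.Gen) : sigmaHom (gx x) = gx (sg x) := by
  unfold sigmaHom gx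
  exact PresentedGroup.toGroup.of sg_rels

theorem sigmaHom_sq : sigmaHom.comp sigmaHom = MonoidHom.id GG := by
  apply PresentedGroup.ext
  intro x
  show sigmaHom (sigmaHom (gx x)) = gx x
  rw [sigmaHom_gx, sigmaHom_gx, sg_sg]

/-- the diagram automorphism -/
noncomputable def sigma : MulAut GG := MonoidHom.toMulEquiv sigmaHom sigmaHom sigmaHom_sq sigmaHom_sq

theorem sigma_gx (x : Fi22.Gen) : sigma (gx x) = gx (sg x) := sigmaHom_gx x

theorem sigma_tau (x : Fi22.Gen) : sigma (tau (toPt (gpt x))) = tau (toPt (gpt (sg x))) := by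
  rw [toPt_of_lt _ (gpt_lt x), toPt_of_lt _ (gpt_lt (sg x)), ← gx_eq_tau, ← gx_eq_tau]
  exact sigma_gx x

/-- the tuple `sigP` is the image of the standard tuple under `sigma` -/
theorem sigma_stdP : ∀ (i : ℕ) (p : Pt), stdP[i]? = some p → ∃ a, sigP[i]? = some a ∧ sigma (TM.τ p) = TM.τ a := by
  intro i p hp
  have hi : i < 9 := by
    by_contra hcon
    rw [List.getElem?_eq_none (by rw [length_stdP]; omega)] at hp
    simp at hp
  interval_cases i
  · have e : toPt (gpt .d) = p := Option.some.inj hp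
    exact ⟨toPt (gpt (sg .d)), rfl, e ▸ sigma_tau .d⟩
  · have e : toPt (gpt .h) = p := Option.some.inj hp
    exact ⟨toPt (gpt (sg .h)), rfl, e ▸ sigma_tau .h⟩
  · have e : toPt (gpt .i) = p := Option.some.inj hp
    exact ⟨toPt (gpt (sg .i)), rfl, e ▸ sigma_tau .i⟩
  · have e : toPt (gpt .c) = p := Option.some.inj hp
    exact ⟨toPt (gpt (sg .c)), rfl, e ▸ sigma_tau .c⟩
  · have e : toPt (gpt .e) = p := Option.some.inj hp
    exact ⟨toPt (gpt (sg .e)), rfl, e ▸ sigma_tau .e⟩
  · have e : toPt (gpt .b) = p := Option.some.inj hp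
    exact ⟨toPt (gpt (sg .b)), rfl, e ▸ sigma_tau .b⟩
  · have e : toPt (gpt .a) = p := Option.some.inj hp
    exact ⟨toPt (gpt (sg .a)), rfl, e ▸ sigma_tau .a⟩
  · have e : toPt (gpt .f) = p := Option.some.inj hp
    exact ⟨toPt (gpt (sg .f)), rfl, e ▸ sigma_tau .f⟩
  · have e : toPt (gpt .g) = p := Option.some.inj hp
    exact ⟨toPt (gpt (sg .g)), rfl, e ▸ sigma_tau .g⟩

end Cfsg.Agent.Helper92.Fi22O
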