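import Cfsg.Agent.Helper92.Fi22O.Cert
import Cfsg.Agent.Helper92.Fi22O.Sigma

set_option autoImplicit false
set_option maxRecDepth 1000000

/-!
# Every automorphism of `Fi22` preserving the class of transpositions is inner or in the coset of `sigma`
-/

namespace Cfsg.Agent.Helper92.Fi22O

open Cfsg.Agent.Helper28 Cfsg.Agent.Helper28.Fi22b Cfsg.Agent.Helper28.Fi22C Cfsg.Spor
open Cfsg.Agent.Helper56.Fi22T Cfsg.Agent.Helper92.Fi23T Cfsg.Agent.Helper92.Fi22S Cfsg.Agent.Helper92.Fi23O

theorem pts_take (A : List (ℕ × List ℕ)) (j : ℕ) : pts (A.take j) = (pts A).take j := by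
  unfold pts; rw [List.map_take]

theorem hstd : TM.Std stdP adjB := by
  intro i j p p' hij hp hp'
  have hj : j < 9 := by
    by_contra hcon
    rw [List.getElem?_eq_none (by rw [length_stdP]; omega)] at hp'
    simp at hp'
  have h1 := allLt_sound _ _ std_ok j hj
  have hjl : j < stdA.length := hj
  have hVA : VA stdA[j] := VA_std _ (List.getElem_mem hjl)
  have hp'e : p' = toPt (stdA[j]).1 := by
    have : stdP[j]? = some (toPt (stdA[j]).1) := by
      unfold stdP pts
      rw [List.getElem?_map, List.getElem?_eq_getElem hjl]; rfl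
    rw [this] at hp'
    exact (Option.some.inj hp').symm
  rw [List.getD_eq_getElem _ _ hjl] at h1
  have hval : (toPt (stdA[j]).1).val = (stdA[j]).1 := by rw [toPt_of_lt _ hVA.2.1]
  rw [← hval, candAux_iff j (toPt (stdA[j]).1) (stdA.take j) 0
    (fun e he => VA_std e (List.mem_of_mem_take he))] at h1
  have hpi : (pts (stdA.take j))[i]? = some p := by
    rw [pts_take, List.getElem?_take, if_pos hij]
    exact hp
  have h2 := h1 i p hpi
  rw [Nat.zero_add] at h2
  rw [hp'e]
  exact ⟨fun h => h2.1 h.symm, h2.2⟩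

theorem hgen : Subgroup.closure {x : GG | ∃ p ∈ stdP, x = TM.τ p} = ⊤ := by
  rw [eq_top_iff, ← PresentedGroup.closure_range_of Fi22b.R, Subgroup.closure_le]
  rintro _ ⟨x, rfl⟩
  apply Subgroup.subset_closure
  refine ⟨toPt (gpt x), ?_, ?_⟩
  · unfold stdP pts stdA
    cases x <;> simp [gpt]
  · show gx x = tau (toPt (gpt x))
    rw [gx_eq_tau x, toPt_of_lt _ (gpt_lt x)]

/-- the target set: inner automorphisms and the coset of `sigma` -/
noncomputable def NN : Set (MulAut GG) := GoodS sigma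

theorem hNN : ConjClosed NN := conjClosed_goodS sigma

theorem leaf1 : InnerN TM NN stdP stdP :=
  innerN_leaf TM NN stdP hgen 1 (one_mem_goodS sigma) stdP (fun _ p hp => ⟨p, hp, rfl⟩)

theorem leaf2 : InnerN TM NN stdP sigP :=
  innerN_leaf TM NN stdP hgen sigma (self_mem_goodS sigma) sigP sigma_stdP

theorem inner5 : InnerN TM NN stdP (pts (stdA.take 5)) := by
  have hA : A5 = stdA.take 5 := rfl
  have h := search_sound NN hNN leaf1 leaf2 hstd twL trX 5 A5
    (fun e he => VA_std e (List.mem_of_mem_take (hA ▸ he))) search5_ok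
  rw [hA] at h
  exact h

theorem inner1 : InnerN TM NN stdP (pts (stdA.take 1)) := by
  have h4 := stage_sound NN hNN leaf1 leaf2 hstd twL trX 3 4 (by norm_num) A4 rfl 59 rfl gs4 tab4 stage4_ok inner5
  have h3 := stage_sound NN hNN leaf1 leaf2 hstd twL trX 3 3 (by norm_num) A3 rfl 12 rfl gs3 tab3 stage3_ok h4
  have h2 := stage_sound NN hNN leaf1 leaf2 hstd twL trX 3 2 (by norm_num) A2 rfl 86 rfl gs2 tab2 stage2_ok h3
  exact stage_sound NN hNN leaf1 leaf2 hstd twL trX 3 1 (by norm_num) A1 rfl 34 rfl gs1 tab1 stage1_ok h2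

theorem inner0 : InnerN TM NN stdP [] := by
  apply innerN_of_cands TM NN stdP adjB hstd [] (by rw [length_stdP]; norm_num)
  intro Q _
  obtain ⟨y, hy⟩ := trans0 Q
  obtain ⟨y0, hy0⟩ := trans0 (toPt 10)
  apply innerN_of_map TM NN stdP hNN (y0 * y⁻¹)
  have e : ([] ++ [Q]).map (TM.ρ (y0 * y⁻¹)) = pts (stdA.take 1) := by
    show [rho (y0 * y⁻¹) Q] = [toPt 10]
    congr 1
    rw [map_mul, Equiv.Perm.mul_apply, ← hy, map_inv, Equiv.Perm.inv_def, Equiv.symm_apply_apply, hy0]
  rw [e]
  exact inner1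

/-- every automorphism preserving the class of transpositions is inner or in the coset of `sigma` -/
theorem rigid : ∀ β ∈ TM.AutD, β ∈ GoodS sigma := innerN_nil_all TM NN stdP inner0

end Cfsg.Agent.Helper92.Fi22O
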