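import Cfsg.Agent.Helper92.Fi22O.ClassD
import Cfsg.Agent.Helper92.Fi22O.RigidMain
import Cfsg.Agent.Helper92.Fi22O.NotInner
import Cfsg.Prelude.Def_KGroupFacts

set_option autoImplicit false
set_option maxRecDepth 1000000

/-!
# The outer automorphism group of the presented group `Fi22` has order `2`
-/

namespace Cfsg.Agent.Helper92.Fi22O

open Cfsg.Agent.Helper28 Cfsg.Agent.Helper28.Fi22b Cfsg.Agent.Helper28.Fi22C Cfsg.Spor
open Cfsg.Agent.Helper56.Fi22T Cfsg.Agent.Helper92.Fi23T Cfsg.Agent.Helper92.Fi23S Cfsg.Agent.Helper92.Fi22S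
open Cfsg.Agent.Helper92.Fi23O

theorem dl_two_eq : dl 2 = tau ⟨59, gpt_lt .e⟩ := by
  rw [dl_word]
  have e : wordL dwords 2 = [2 * 4] := by decide
  rw [e, W_single 4 (by norm_num)]
  exact gx_eq_tau .e

/-- every automorphism preserves the class of transpositions -/
theorem all_AutD (β : MulAut GG) : β ∈ TM.AutD := by
  intro q
  obtain ⟨c, hc⟩ := isConj_iff.mp (conj_of_aut β)
  rw [dl_two_eq] at hc
  obtain ⟨y, hy⟩ := trans0 q
  obtain ⟨ya, hya⟩ := trans0 (⟨59, gpt_lt .e⟩ : Pt)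
  have hs : rho (y * ya⁻¹) ⟨59, gpt_lt .e⟩ = q := by
    rw [map_mul, Equiv.Perm.mul_apply, ← hya, map_inv, Equiv.Perm.inv_def, Equiv.symm_apply_apply, hy]
  have hq : TM.τ q = (y * ya⁻¹) * tau ⟨59, gpt_lt .e⟩ * (y * ya⁻¹)⁻¹ := by
    rw [tau_conj, hs]; rfl
  refine ⟨rho (β (y * ya⁻¹)) (rho c ⟨59, gpt_lt .e⟩), ?_⟩
  rw [hq, map_mul, map_mul, map_inv, ← hc, tau_conj, tau_conj]
  rfl

/-- every automorphism is inner or in the coset of the diagram automorphism -/
theorem all_good (β : MulAut GG) : β ∈ GoodS sigma := rigid β (all_AutD β)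

theorem index_inn : (Cfsg.Inn GG).index = 2 := index_two_of_goodS sigma sigma_not_inner all_good

theorem card_out : Nat.card (Cfsg.Out Cfsg.Spor.Fi22) = 2 := by
  show (Cfsg.Inn GG).index = 2
  exact index_inn

end Cfsg.Agent.Helper92.Fi22O
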